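import Mathlib
import Cfsg.Agent.Lib.CosetTable.Check

/-!
Coset tables with more than 65536 rows: all tables are binary trees.
-/

namespace Cfsg.Agent.Lib.CosetTable.Big

open Cfsg.Agent.Lib.CosetTable

/-- row number `0` of a list of trees, or an empty tree -/
noncomputable def treeAt (l : List T) : ℕ → T :=
  List.rec (motive := fun _ => ℕ → T) (fun _ => .leaf 0)
    (fun x _ ih i => Nat.rec (motive := fun _ => T) x (fun m _ => ih m) i) l

/-- final table: `edge` has the image in the low 20 bits and the fact above;
`row` has the node in the low 24 bits and `j * 32 + g` above -/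
structure Table where
  n : ℕ
  k : ℕ
  edge : List T
  row : T

namespace Table

variable (A : Table)

noncomputable def act (g i : ℕ) : ℕ := Nat.land ((treeAt A.edge g).get i) 1048575
noncomputable def eid (g i : ℕ) : ℕ := Nat.shiftRight ((treeAt A.edge g).get i) 20
noncomputable def nd (i : ℕ) : ℕ := Nat.land (A.row.get i) 16777215
noncomputable def pG (i : ℕ) : ℕ := Nat.land (Nat.shiftRight (A.row.get i) 24) 31
noncomputable def pJ (i : ℕ) : ℕ := Nat.shiftRight (A.row.get i) 29

/-- follow a word -/
noncomputable def walk (w : List ℕ) : ℕ → ℕ :=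
  List.rec (motive := fun _ => ℕ → ℕ) (fun i => i)
    (fun a _ ih i => force (A.act a i) ih) w

/-- edge data of row `i` -/
noncomputable def edgeOK (C : Cert) (N i g : ℕ) : Bool :=
  force (A.act g i) fun j => force (A.eid g i) fun e => force (C.facts.get e) fun f =>
    force (A.nd i) fun x => force (A.nd j) fun y =>
      andB (Nat.blt j A.n) (andB (Nat.beq (A.act g j) i) (andB (Nat.blt e N)
        (andB (Nat.beq (Nat.land f 31) g)
          (iteB (andB (Nat.beq (Nat.shiftRight f 26) x)
              (Nat.beq (Nat.land (Nat.shiftRight f 5) 2097151) y)) true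
            (andB (Nat.beq (Nat.shiftRight f 26) y)
              (Nat.beq (Nat.land (Nat.shiftRight f 5) 2097151) x))))))

/-- row `i` -/
noncomputable def rowOK (C : Cert) (N i : ℕ) : Bool :=
  andB (rangeAll (A.edgeOK C N i) A.k 0)
    (iteB (Nat.beq i 0) (Nat.beq (A.nd 0) 0)
      (andB (Nat.blt (A.pJ i) i) (andB (Nat.blt (A.pG i) A.k)
        (Nat.beq (A.act (A.pG i) (A.pJ i)) i))))

/-- every word of `ws` fixes `i` -/
noncomputable def fixOK (ws : List (List ℕ)) (i : ℕ) : Bool :=
  allL (fun w => Nat.beq (A.walk w i) i) ws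

end Table

/-- orbit certificate: `pt` has the point in the low 24 bits and `(word, predecessor)` above -/
structure Orb where
  m : ℕ
  pt : T
  inv : T

namespace Orb

variable (O : Orb)

noncomputable def get (p : ℕ) : ℕ := Nat.land (O.pt.get p) 16777215
noncomputable def idx (x : ℕ) : ℕ := O.inv.get x
noncomputable def pW (p : ℕ) : ℕ := Nat.land (Nat.shiftRight (O.pt.get p) 24) 31
noncomputable def pP (p : ℕ) : ℕ := Nat.shiftRight (O.pt.get p) 29
noncomputable def mem (x : ℕ) : Bool := andB (Nat.blt (O.idx x) O.m) (Nat.beq (O.get (O.idx x)) x)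



/-- position `p` -/
noncomputable def posOK (A : Table) (subs : List (List ℕ)) (p : ℕ) : Bool :=
  force (O.get p) fun x =>
    andB (Nat.blt x A.n) (andB (Nat.beq (O.idx x) p)
      (andB (allL (fun w => force (A.walk w x) O.mem) subs)
        (iteB (Nat.beq p 0) true
          (andB (Nat.blt (O.pP p) p) (andB (Nat.blt (O.pW p) subs.length)
            (Nat.beq (A.walk (subs.getD (O.pW p) []) (O.get (O.pP p))) x))))))

end Orb

end Cfsg.Agent.Lib.CosetTable.Big
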