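import Mathlib
import Cfsg.Agent.Lib.CosetTable.Sound
import Cfsg.Agent.Lib.CosetTable.Big.Check

/-! Index and orbits for big tables. -/

namespace Cfsg.Agent.Lib.CosetTable.Big

open Cfsg.Agent.Lib.CosetTable

/-- everything that is checked by evaluation, apart from orbits -/
structure Checked (C : Cert) (A : Table) (N : ℕ) : Prop where
  same : A.k = C.k
  pos : 0 < A.n
  rules : C.rulesOK C.cyc C.rules = true
  steps : C.Upto N
  rows : Below (A.rowOK C N) A.n
  relFix : Below (A.fixOK C.rels) A.n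
  subFix : A.fixOK C.subs 0 = true

namespace Checked

variable {C : Cert} {A : Table} {N : ℕ}

theorem edge (K : Checked C A N) {i g : ℕ} (hi : i < A.n) (hg : g < C.k) :
    A.act g i < A.n ∧ A.act g (A.act g i) = i ∧ A.eid g i < N ∧ C.fL (A.eid g i) = g ∧
      ((C.fU (A.eid g i) = A.nd i ∧ C.fV (A.eid g i) = A.nd (A.act g i)) ∨
        (C.fU (A.eid g i) = A.nd (A.act g i) ∧ C.fV (A.eid g i) = A.nd i)) := by
  have h := K.rows i hi
  simp only [Table.rowOK, andB_eq, iteB_eq, Bool.and_eq_true] at h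
  have h' := rangeAll_spec h.1 g (Nat.zero_le _) (by rw [K.same]; omega)
  simp only [Table.edgeOK, force_eq, andB_eq, iteB_eq, Bool.and_eq_true, Bool.cond_true_left,
    Bool.or_eq_true, beq_iff, blt_iff] at h'
  obtain ⟨h1, h2, h3, h4, h5⟩ := h'
  exact ⟨h1, h2, h3, h4, h5⟩

theorem node_zero (K : Checked C A N) : A.nd 0 = 0 := by
  have h := K.rows 0 K.pos
  simp only [Table.rowOK, andB_eq, iteB_eq, Bool.and_eq_true] at h
  have h0 : Nat.beq 0 0 = true := rfl
  simpa only [h0, cond_true, beq_iff] using h.2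

theorem parent (K : Checked C A N) {i : ℕ} (hi : i < A.n) (h0 : i ≠ 0) :
    A.pJ i < i ∧ A.pG i < C.k ∧ A.act (A.pG i) (A.pJ i) = i := by
  have h := K.rows i hi
  simp only [Table.rowOK, andB_eq, iteB_eq, Bool.and_eq_true] at h
  have hb : Nat.beq i 0 = false := by
    rw [Bool.eq_false_iff]; exact fun e => h0 (beq_iff.mp e)
  simp only [hb, cond_false, Bool.and_eq_true, beq_iff, blt_iff] at h
  rw [← K.same]
  exact ⟨h.2.1, h.2.2.1, h.2.2.2⟩

/-- the permutation of a generator -/
noncomputable def perm (K : Checked C A N) (g : ℕ) : Equiv.Perm (Fin A.n) :=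
  if hg : g < C.k then
    { toFun := fun i => ⟨A.act g i, (K.edge i.2 hg).1⟩
      invFun := fun i => ⟨A.act g i, (K.edge i.2 hg).1⟩
      left_inv := fun i => Fin.ext (K.edge i.2 hg).2.1
      right_inv := fun i => Fin.ext (K.edge i.2 hg).2.1 }
  else 1

theorem perm_apply (K : Checked C A N) {g : ℕ} (hg : g < C.k) (i : Fin A.n) :
    ((K.perm g i : Fin A.n) : ℕ) = A.act g i := by
  simp [perm, hg]

theorem perm_invol (K : Checked C A N) {g : ℕ} (hg : g < C.k) : K.perm g * K.perm g = 1 := by
  ext i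
  simp [perm_apply K hg, (K.edge i.2 hg).2.1]

theorem eval_perm (K : Checked C A N) : ∀ {w : List ℕ}, (∀ a ∈ w, a < C.k) → ∀ i : Fin A.n,
    ((eval K.perm w i : Fin A.n) : ℕ) = A.walk w i
  | [], _, i => by simp only [eval, Equiv.Perm.one_apply]; rfl
  | a :: w, h, i => by
    show _ = force (A.act a i) (A.walk w)
    rw [force_eq]
    simp only [eval, Equiv.Perm.mul_apply]
    rw [eval_perm K (fun b hb => h b (List.mem_cons_of_mem _ hb)), K.perm_apply (h a (by simp))]

theorem rel_perm (K : Checked C A N) (hw : C.wordsOK = true) :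
    ∀ w ∈ C.rels, eval K.perm w = 1 := by
  intro w hm
  simp only [Cert.wordsOK, Bool.and_eq_true, List.all_eq_true, blt_iff] at hw
  ext i
  have h := K.relFix i i.2
  rw [K.eval_perm (hw.1 w hm), Equiv.Perm.one_apply]
  exact beq_iff.mp (allL_spec h w hm)

section Group

variable {G : Type*} [Group G] {f : ℕ → G} (K : Checked C A N) (M : Model f C)
  (φ : G →* Equiv.Perm (Fin A.n)) (hφ : ∀ g, g < C.k → φ (f g) = K.perm g)

/-- coset number `i` -/
noncomputable def coset (f : ℕ → G) (_K : Checked C A N) (i : Fin A.n) :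
    G ⧸ wordSubgroup f C.subs :=
  node f C (A.nd i)

include M in
theorem coset_perm {g : ℕ} (hg : g < C.k) (i : Fin A.n) :
    K.coset f (K.perm g i) = f g • K.coset f i := by
  obtain ⟨_, _, h3, h4, h5⟩ := K.edge i.2 hg
  have e := facts_valid M K.rules K.steps _ h3
  rw [h4, lab_of_lt f hg] at e
  simp only [coset, K.perm_apply hg]
  rcases h5 with ⟨hu, hv⟩ | ⟨hu, hv⟩
  · rw [hu, hv] at e; exact e.symm
  · rw [hu, hv] at e; rw [← e, smul_smul, M.invol g hg, one_smul]

include M hφ in
theorem coset_map (x : G) : ∀ i : Fin A.n, K.coset f (φ x i) = x • K.coset f i := by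
  have hx : x ∈ Subgroup.closure {x | ∃ g, g < C.k ∧ f g = x} := by rw [M.gen]; trivial
  induction hx using Subgroup.closure_induction with
  | mem y hy => obtain ⟨g, hg, rfl⟩ := hy; intro i; rw [hφ g hg, coset_perm K M hg]
  | one => intro i; simp
  | mul y z _ _ hy hz => intro i; rw [map_mul, Equiv.Perm.mul_apply, hy, hz, mul_smul]
  | inv y _ hy =>
    intro i
    have h := hy (φ y⁻¹ i)
    rw [map_inv] at h
    simp only [Equiv.Perm.inv_def, Equiv.apply_symm_apply] at h
    rw [map_inv, Equiv.Perm.inv_def, eq_inv_smul_iff]; exact h.symm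

theorem coset_zero (hn : 0 < A.n) : K.coset f ⟨0, hn⟩ = QuotientGroup.mk 1 := by
  simp only [coset, node]
  rw [K.node_zero, nodeVal_zero]

include M hφ in
theorem coset_surjective : Function.Surjective (K.coset f) := by
  intro q
  induction q using QuotientGroup.induction_on with
  | _ x =>
    refine ⟨φ x ⟨0, K.pos⟩, ?_⟩
    rw [coset_map K M φ hφ, coset_zero, MulAction.Quotient.smul_mk, smul_eq_mul, mul_one]

include hφ in
theorem exists_map_zero : ∀ i : Fin A.n, ∃ x, φ x ⟨0, K.pos⟩ = i := by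
  intro ⟨i, hi⟩
  induction i using Nat.strongRecOn with
  | _ i IH =>
    by_cases h0 : i = 0
    · subst h0; exact ⟨1, by simp⟩
    · obtain ⟨h1, h2, h3⟩ := K.parent hi h0
      obtain ⟨x, hx⟩ := IH _ h1 (by omega)
      refine ⟨f (A.pG i) * x, ?_⟩
      rw [map_mul, Equiv.Perm.mul_apply, hx, hφ _ h2]
      exact Fin.ext (by rw [K.perm_apply h2]; exact h3)

include M hφ in
theorem map_eval : ∀ {w : List ℕ}, (∀ a ∈ w, a < C.k) → φ (eval f w) = eval K.perm w
  | [], _ => by simp [eval]
  | a :: w, h => by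
    simp only [eval, map_mul, map_eval (fun b hb => h b (List.mem_cons_of_mem _ hb)),
      hφ a (h a (by simp))]

include M hφ in
theorem subgroup_fix {x : G} (hx : x ∈ wordSubgroup f C.subs) :
    φ x ⟨0, K.pos⟩ = ⟨0, K.pos⟩ := by
  induction hx using Subgroup.closure_induction with
  | mem y hy =>
    obtain ⟨w, hw, rfl⟩ := hy
    have hl := M.subs_lt w hw
    have e := map_eval K M φ hφ hl
    have h := K.subFix
    rw [e]
    exact Fin.ext (by rw [K.eval_perm hl]; exact beq_iff.mp (allL_spec h w hw))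
  | one => simp
  | mul y z _ _ hy hz => rw [map_mul, Equiv.Perm.mul_apply, hz, hy]
  | inv y _ hy =>
    rw [map_inv, Equiv.Perm.inv_eq_iff_eq, hy]

include M hφ in
theorem coset_injective : Function.Injective (K.coset f) := by
  intro i j h
  obtain ⟨x, rfl⟩ := exists_map_zero K φ hφ i
  obtain ⟨y, rfl⟩ := exists_map_zero K φ hφ j
  rw [coset_map K M φ hφ, coset_map K M φ hφ, coset_zero, MulAction.Quotient.smul_mk,
    MulAction.Quotient.smul_mk, smul_eq_mul, smul_eq_mul, mul_one, mul_one, QuotientGroup.eq] at h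
  have := subgroup_fix K M φ hφ h
  rw [map_mul, map_inv, Equiv.Perm.mul_apply, Equiv.Perm.inv_eq_iff_eq] at this
  exact this.symm

include M hφ in
theorem coset_bijective : Function.Bijective (K.coset f) :=
  ⟨coset_injective K M φ hφ, coset_surjective K M φ hφ⟩

include M hφ in
theorem index_eq : (wordSubgroup f C.subs).index = A.n := by
  rw [Subgroup.index, ← Nat.card_congr (Equiv.ofBijective _ (coset_bijective K M φ hφ)),
    Nat.card_fin]

include M hφ in
/-- an orbit certificate gives the size of an orbit, and which cosets lie in it -/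
theorem orbit_spec (O : Orb) (hm : 0 < O.m) (hO : Below (O.posOK A C.subs) O.m) :
    ∃ h0 : O.get 0 < A.n,
      (MulAction.orbit (wordSubgroup f C.subs) (K.coset f ⟨O.get 0, h0⟩)).ncard = O.m ∧
      ∀ i : Fin A.n, K.coset f i ∈ MulAction.orbit (wordSubgroup f C.subs)
        (K.coset f ⟨O.get 0, h0⟩) → O.mem i = true := by
  have hp : ∀ p, p < O.m → O.get p < A.n ∧ O.idx (O.get p) = p ∧
      (∀ w ∈ C.subs, O.mem (A.walk w (O.get p)) = true) ∧
      (p = 0 ∨ (O.pP p < p ∧ O.pW p < C.subs.length ∧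
        A.walk (C.subs.getD (O.pW p) []) (O.get (O.pP p)) = O.get p)) := by
    intro p hp
    have h := hO p hp
    simp only [Orb.posOK, force_eq, andB_eq, iteB_eq, Bool.and_eq_true, Bool.cond_true_left,
      Bool.or_eq_true, beq_iff, blt_iff] at h
    exact ⟨h.1, h.2.1, fun w hw => by simpa using allL_spec h.2.2.1 w hw, h.2.2.2⟩
  refine ⟨(hp 0 hm).1, ?_⟩
  let pts : Fin O.m → Fin A.n := fun p => ⟨O.get p, (hp p p.2).1⟩
  have hinj : Function.Injective pts := by
    intro p q h
    have e : O.get p = O.get q := congrArg Fin.val h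
    exact Fin.ext (by rw [← (hp p p.2).2.1, ← (hp q q.2).2.1, e])
  have hmem : ∀ i : Fin A.n, i ∈ Set.range pts ↔ O.mem i = true := by
    intro i
    simp only [Orb.mem, andB_eq, Bool.and_eq_true, beq_iff, blt_iff]
    constructor
    · rintro ⟨p, rfl⟩; exact ⟨by rw [(hp p p.2).2.1]; exact p.2, by rw [(hp p p.2).2.1]⟩
    · rintro ⟨h1, h2⟩; exact ⟨⟨_, h1⟩, Fin.ext h2⟩
  have hstep : ∀ w ∈ C.subs, ∀ i : Fin A.n, i ∈ Set.range pts →
      φ (eval f w) i ∈ Set.range pts ∧ K.coset f (φ (eval f w) i) = eval f w • K.coset f i := by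
    rintro w hw _ ⟨p, rfl⟩
    have hl := M.subs_lt w hw
    have e := map_eval K M φ hφ hl
    refine ⟨?_, coset_map K M φ hφ _ _⟩
    rw [hmem, e, K.eval_perm hl]
    exact (hp p p.2).2.2.1 w hw
  have hclosed : ∀ x ∈ wordSubgroup f C.subs, ∀ i ∈ Set.range pts, φ x i ∈ Set.range pts := by
    intro x hx
    induction hx using Subgroup.closure_induction with
    | mem y hy => obtain ⟨w, hw, rfl⟩ := hy; exact fun i hi => (hstep w hw i hi).1
    | one => intro i hi; simpa using hi
    | mul y z _ _ hy hz =>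
      intro i hi; rw [map_mul, Equiv.Perm.mul_apply]; exact hy _ (hz i hi)
    | inv y _ hy =>
      intro i hi
      have he : φ y '' Set.range pts = Set.range pts :=
        Set.eq_of_subset_of_ncard_le (by rintro _ ⟨a, ha, rfl⟩; exact hy a ha)
          (by rw [Set.ncard_image_of_injective _ (φ y).injective]) (Set.toFinite _)
      rw [← he] at hi
      obtain ⟨a, ha, e⟩ := hi
      rw [← e, map_inv]
      simpa [Equiv.Perm.inv_def] using ha
  have horb : MulAction.orbit (wordSubgroup f C.subs) (K.coset f ⟨O.get 0, (hp 0 hm).1⟩) =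
      K.coset f '' Set.range pts := by
    apply Set.Subset.antisymm
    · rintro _ ⟨⟨x, hx⟩, rfl⟩
      exact ⟨_, hclosed x hx (pts ⟨0, hm⟩) ⟨_, rfl⟩, coset_map K M φ hφ _ _⟩
    · rintro _ ⟨_, ⟨⟨p, hp'⟩, rfl⟩, rfl⟩
      induction p using Nat.strongRecOn with
      | _ p IH =>
        rcases (hp p hp').2.2.2 with h | ⟨h1, h2, h3⟩
        · subst h; exact MulAction.mem_orbit_self _
        · have hw : C.subs.getD (O.pW p) [] ∈ C.subs := by
            rw [List.getD_eq_getElem _ _ h2]; exact List.getElem_mem h2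
          have hl := M.subs_lt _ hw
          have hs := hstep _ hw (pts ⟨O.pP p, h1.trans hp'⟩) ⟨_, rfl⟩
          obtain ⟨x, hx⟩ := IH _ h1 (h1.trans hp')
          refine ⟨⟨eval f (C.subs.getD (O.pW p) []),
            Subgroup.subset_closure ⟨_, hw, rfl⟩⟩ * x, ?_⟩
          show (_ * x) • _ = _
          rw [mul_smul]
          rw [show x • K.coset f ⟨O.get 0, (hp 0 hm).1⟩ = _ from hx]
          refine hs.2.symm.trans ?_
          congr 1
          apply Fin.ext
          have e := map_eval K M φ hφ hl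
          rw [e, K.eval_perm hl]
          exact h3
  refine ⟨?_, fun i hi => ?_⟩
  · rw [horb, Set.ncard_image_of_injective _ (coset_injective K M φ hφ),
      Set.ncard_range_of_injective hinj, Nat.card_fin]
  · rw [horb] at hi
    obtain ⟨j, hj, e⟩ := hi
    rw [← coset_injective K M φ hφ e]
    exact (hmem j).mp hj

end Group

end Checked

end Cfsg.Agent.Lib.CosetTable.Big
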