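import Mathlib
import Cfsg.Agent.Lib.CosetTable.Big.Action

/-! Covers for big tables. -/

namespace Cfsg.Agent.Lib.CosetTable.Big

open Cfsg.Agent.Lib.CosetTable

/-- the part of a certificate that bounds an index from above -/
structure Cover (C : Cert) (A : Table) (N : ℕ) : Prop where
  same : A.k = C.k
  pos : 0 < A.n
  rules : C.rulesOK C.cyc C.rules = true
  steps : C.Upto N
  rows : Below (A.rowOK C N) A.n

theorem Checked.toCover {C : Cert} {A : Table} {N : ℕ} (K : Checked C A N) : Cover C A N :=
  ⟨K.same, K.pos, K.rules, K.steps, K.rows⟩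

namespace Cover

variable {C : Cert} {A : Table} {N : ℕ} {G : Type*} [Group G] {f : ℕ → G}

theorem exists_surjective (K : Cover C A N) (M : Model f C) :
    ∃ q : Fin A.n → G ⧸ wordSubgroup f C.subs, Function.Surjective q := by
  let q : Fin A.n → G ⧸ wordSubgroup f C.subs := fun i => node f C (A.nd i)
  refine ⟨q, ?_⟩
  have hrow : ∀ i, i < A.n → rangeAll (A.edgeOK C N i) A.k 0 = true := fun i hi => by
    have h := K.rows i hi
    simp only [Table.rowOK, andB_eq, Bool.and_eq_true] at h
    exact h.1
  have hgen : ∀ g, g < C.k → ∀ i : Fin A.n, ∃ j, q j = f g • q i := by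
    intro g hg i
    have h' := rangeAll_spec (hrow i i.2) g (Nat.zero_le _) (by rw [K.same]; omega)
    simp only [Table.edgeOK, force_eq, andB_eq, iteB_eq, Bool.and_eq_true, Bool.cond_true_left,
      Bool.or_eq_true, beq_iff, blt_iff] at h'
    obtain ⟨h1, _, h3, h4, h5⟩ := h'
    refine ⟨⟨_, h1⟩, ?_⟩
    have e := facts_valid M K.rules K.steps _ h3
    rw [show C.fL (A.eid g i) = g from h4, lab_of_lt f hg] at e
    rcases h5 with ⟨hu, hv⟩ | ⟨hu, hv⟩
    · rw [show C.fU (A.eid g i) = A.nd i from hu,
        show C.fV (A.eid g i) = A.nd (A.act g i) from hv] at e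
      exact e.symm
    · rw [show C.fU (A.eid g i) = A.nd (A.act g i) from hu,
        show C.fV (A.eid g i) = A.nd i from hv] at e
      show node f C (A.nd (A.act g i)) = f g • node f C (A.nd i)
      rw [← e, smul_smul, M.invol g hg, one_smul]
  have h0 : A.nd 0 = 0 := by
    have h := K.rows 0 K.pos
    simp only [Table.rowOK, andB_eq, iteB_eq, Bool.and_eq_true] at h
    have h0 : Nat.beq 0 0 = true := rfl
    simpa only [h0, cond_true, beq_iff] using h.2
  have hclosed : ∀ x : G, ∀ i : Fin A.n, ∃ j, q j = x • q i := by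
    intro x
    have hx : x ∈ Subgroup.closure {x | ∃ g, g < C.k ∧ f g = x} := by rw [M.gen]; trivial
    induction hx using Subgroup.closure_induction'' with
    | one => intro i; exact ⟨i, by simp⟩
    | mem y hy => obtain ⟨g, hg, rfl⟩ := hy; exact hgen g hg
    | inv_mem y hy =>
      obtain ⟨g, hg, rfl⟩ := hy
      rw [inv_eq_of_mul_eq_one_right (M.invol g hg)]
      exact hgen g hg
    | mul y z _ _ hy hz =>
      intro i
      obtain ⟨j, hj⟩ := hz i
      obtain ⟨l, hl⟩ := hy j
      exact ⟨l, by rw [hl, hj, mul_smul]⟩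
  intro c
  induction c using QuotientGroup.induction_on with
  | _ x =>
    obtain ⟨j, hj⟩ := hclosed x ⟨0, K.pos⟩
    refine ⟨j, ?_⟩
    rw [hj]
    simp [q, node, h0, nodeVal_zero]

theorem finite_card_le (K : Cover C A N) (M : Model f C) {b : ℕ}
    (hb : Finite (wordSubgroup f C.subs) ∧ Nat.card (wordSubgroup f C.subs) ≤ b) :
    Finite G ∧ Nat.card G ≤ A.n * b := by
  obtain ⟨q, hq⟩ := exists_surjective K M
  have : Finite (G ⧸ wordSubgroup f C.subs) := Finite.of_surjective q hq
  have := hb.1
  have hfin : Finite G :=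
    Finite.of_equiv _ (Subgroup.groupEquivQuotientProdSubgroup (s := wordSubgroup f C.subs)).symm
  refine ⟨hfin, ?_⟩
  rw [Subgroup.card_eq_card_quotient_mul_card_subgroup (wordSubgroup f C.subs)]
  refine Nat.mul_le_mul ?_ hb.2
  simpa using Nat.card_le_card_of_surjective q hq

end Cover

end Cfsg.Agent.Lib.CosetTable.Big
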