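import Mathlib
import Cfsg.Agent.Lib.CosetTable.Big.Cover

/-! Lower bounds for big tables. -/

namespace Cfsg.Agent.Lib.CosetTable.Big

open Cfsg.Agent.Lib.CosetTable
section Lower

/-- product of the certified orbit lengths -/
def levelsCard : List (Orb × List (List ℕ)) → ℕ
  | [] => 1
  | (O, _) :: L => O.m * levelsCard L

/-- all words used in the levels -/
def levelsWords : List (Orb × List (List ℕ)) → List (List ℕ)
  | [] => []
  | (_, ws) :: L => ws ++ levelsWords L

variable {C : Cert} {A : Table} {N : ℕ}

/-- position `p` of an orbit certificate is new and reached from an earlier one -/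
noncomputable def Orb.reachOK (O : Orb) (A : Table) (ws : List (List ℕ)) (p : ℕ) : Bool :=
  force (O.get p) fun x =>
    andB (Nat.blt x A.n) (andB (Nat.beq (O.idx x) p)
      (iteB (Nat.beq p 0) true
        (andB (Nat.blt (O.pP p) p) (andB (Nat.blt (O.pW p) ws.length)
          (Nat.beq (A.walk (ws.getD (O.pW p) []) (O.get (O.pP p))) x)))))

/-- every level has a checked orbit, fixed by all later words -/
def LevelsOK (C : Cert) (A : Table) : List (Orb × List (List ℕ)) → Prop
  | [] => True
  | (O, ws) :: L =>
    (0 < O.m ∧ Below (O.reachOK A ws) O.m ∧ A.fixOK (levelsWords L) (O.get 0) = true ∧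
      allL (allL fun a => Nat.blt a C.k) ws = true) ∧ LevelsOK C A L

theorem LevelsOK.words_lt : ∀ {L : List (Orb × List (List ℕ))}, LevelsOK C A L →
    ∀ w ∈ levelsWords L, ∀ a ∈ w, a < C.k
  | [], _, w, hw => absurd hw List.not_mem_nil
  | (_, ws) :: L, h, w, hw => by
    intro a ha
    rcases List.mem_append.mp hw with hw | hw
    · exact blt_iff.mp (allL_spec (allL_spec h.1.2.2.2 w hw) a ha)
    · exact h.2.words_lt w hw a ha

theorem levelsCard_le (K : Checked C A N) : ∀ (L : List (Orb × List (List ℕ))), LevelsOK C A L →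
    ∀ S : Subgroup (Equiv.Perm (Fin A.n)), (∀ w ∈ levelsWords L, eval K.perm w ∈ S) →
      levelsCard L ≤ Nat.card S
  | [], _, S, _ => Nat.card_pos
  | (O, ws) :: L, h, S, hS => by
    obtain ⟨hm, hO, hfix, -⟩ := h.1
    have hlt := h.words_lt
    have hp : ∀ p, p < O.m → O.get p < A.n ∧ O.idx (O.get p) = p ∧
        (p = 0 ∨ (O.pP p < p ∧ O.pW p < ws.length ∧
          A.walk (ws.getD (O.pW p) []) (O.get (O.pP p)) = O.get p)) := by
      intro p hp
      have h := hO p hp
      simp only [Orb.reachOK, force_eq, andB_eq, iteB_eq, Bool.and_eq_true, Bool.cond_true_left,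
        Bool.or_eq_true, beq_iff, blt_iff] at h
      exact ⟨h.1, h.2.1, h.2.2⟩
    let β : Fin A.n := ⟨O.get 0, (hp 0 hm).1⟩
    have horb : ∀ p (hp' : p < O.m),
        (⟨O.get p, (hp p hp').1⟩ : Fin A.n) ∈ MulAction.orbit S β := by
      intro p hp'
      induction p using Nat.strongRecOn with
      | _ p IH =>
        rcases (hp p hp').2.2 with h0 | ⟨h1, h2, h3⟩
        · subst h0; exact MulAction.mem_orbit_self _
        · have hw : ws.getD (O.pW p) [] ∈ levelsWords ((O, ws) :: L) :=
            List.mem_append_left _ (by rw [List.getD_eq_getElem _ _ h2]; exact List.getElem_mem h2)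
          obtain ⟨x, hx⟩ := IH _ h1 (h1.trans hp')
          refine ⟨⟨_, hS _ hw⟩ * x, ?_⟩
          show (_ * x) • β = _
          rw [mul_smul, show x • β = _ from hx]
          refine Fin.ext ?_
          show ((eval K.perm _ : Equiv.Perm (Fin A.n)) _ : ℕ) = _
          rw [K.eval_perm (hlt _ hw)]
          exact h3
    have hcardO : O.m ≤ Nat.card (MulAction.orbit S β) := by
      let e : Fin O.m → MulAction.orbit S β := fun p => ⟨_, horb p p.2⟩
      have he : Function.Injective e := by
        intro p q hpq
        have h' : O.get p = O.get q := congrArg (fun x : MulAction.orbit S β => (x.1 : ℕ)) hpq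
        exact Fin.ext (by rw [← (hp p p.2).2.1, ← (hp q q.2).2.1, h'])
      simpa using Nat.card_le_card_of_injective e he
    have hstab : levelsCard L ≤
        Nat.card ↥(S ⊓ MulAction.stabilizer (Equiv.Perm (Fin A.n)) β) := by
      refine levelsCard_le K L h.2 _ fun w hw => ⟨hS w (List.mem_append_right _ hw), ?_⟩
      show eval K.perm w • β = β
      refine Fin.ext ?_
      show ((eval K.perm w : Equiv.Perm (Fin A.n)) β : ℕ) = _
      rw [K.eval_perm (hlt w (List.mem_append_right _ hw))]
      exact beq_iff.mp (allL_spec hfix w hw)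
    have e : Nat.card (MulAction.stabilizer S β) =
        Nat.card ↥(S ⊓ MulAction.stabilizer (Equiv.Perm (Fin A.n)) β) :=
      Nat.card_congr
        { toFun := fun x => ⟨x.1.1, x.1.2, x.2⟩
          invFun := fun x => ⟨⟨x.1, x.2.1⟩, x.2.2⟩
          left_inv := fun _ => rfl
          right_inv := fun _ => rfl }
    rw [levelsCard, Nat.card_congr (MulAction.orbitEquivQuotientStabilizer S β)] at *
    rw [Subgroup.card_eq_card_quotient_mul_card_subgroup (MulAction.stabilizer S β), e]
    exact Nat.mul_le_mul hcardO hstab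

end Lower

end Cfsg.Agent.Lib.CosetTable.Big
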