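import Mathlib
import Cfsg.Agent.Lib.CosetTable.Maximal
import Cfsg.Agent.Lib.CosetTable.Big.Base

/-! Order, maximality and simplicity for big tables. -/

namespace Cfsg.Agent.Lib.CosetTable.Big

open Cfsg.Agent.Lib.CosetTable

variable {G : Type*} [Group G]

namespace Checked

variable {f : ℕ → G} {C : Cert} {A : Table} {N : ℕ} (K : Checked C A N) (M : Model f C)
  (φ : G →* Equiv.Perm (Fin A.n)) (hφ : ∀ g, g < C.k → φ (f g) = K.perm g)

include M hφ in
theorem natCard_eq {b : ℕ} (hfin : Finite G ∧ Nat.card G ≤ b)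
    (L : List (Orb × List (List ℕ))) (hL : LevelsOK C A L) (hb : levelsCard L = b) :
    Nat.card G = b ∧ Function.Injective φ := by
  haveI := hfin.1
  have h := levelsCard_le K L hL φ.range fun w hw =>
    ⟨eval f w, map_eval K M φ hφ (hL.words_lt w hw)⟩
  have h2 : Nat.card φ.range ≤ Nat.card G :=
    Nat.card_le_card_of_surjective _ φ.rangeRestrict_surjective
  have hcard : Nat.card G = b := by omega
  refine ⟨hcard, (MonoidHom.ker_eq_bot_iff φ).mp ?_⟩
  rw [← Subgroup.card_eq_one]
  have e := Subgroup.card_eq_card_quotient_mul_card_subgroup φ.ker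
  rw [Nat.card_congr (QuotientGroup.quotientKerEquivRange φ).toEquiv] at e
  have hr : Nat.card φ.range = Nat.card G := by omega
  rw [hr] at e
  exact (Nat.mul_eq_left Nat.card_pos.ne').mp e.symm

end Checked

/-- one suborbit, the word leading to its first point, and the collapse certificate -/
structure Suborbit (top : Cert) (A : Table) (O : Orb) (w : List ℕ) : Prop where
  pos : 0 < O.m
  orb : Below (O.posOK A top.subs) O.m
  start : A.walk w 0 = O.get 0
  word : allL (fun a => Nat.blt a top.k) w = true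
  collapse : ∃ (C : Cert) (A' : CosetTable.Table) (N' : ℕ), Collapse top C A' N' [w]

/-- membership in one of the suborbits, or the base point -/
noncomputable def covered (Os : List Orb) (i : ℕ) : Bool :=
  Nat.beq i 0 || Os.any (fun O => O.mem i)

namespace Checked

variable {G : Type*} [Group G] {f : ℕ → G} {C : Cert} {A : Table} {N : ℕ} (K : Checked C A N)
  (M : Model f C) (φ : G →* Equiv.Perm (Fin A.n)) (hφ : ∀ g, g < C.k → φ (f g) = K.perm g)

include M hφ in
theorem sup_zpowers_eq_top (L : List (Orb × List ℕ))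
    (hL : ∀ q ∈ L, Suborbit C A q.1 q.2) (hcov : Below (covered (L.map Prod.fst)) A.n)
    (g : G) (hg : g ∉ wordSubgroup f C.subs) :
    wordSubgroup f C.subs ⊔ Subgroup.zpowers g = ⊤ := by
  obtain ⟨i, hi⟩ := coset_surjective K M φ hφ (QuotientGroup.mk g)
  have hi0 : (i : ℕ) ≠ 0 := by
    intro h
    apply hg
    have e : i = ⟨0, K.pos⟩ := Fin.ext h
    rw [e, coset_zero, QuotientGroup.eq] at hi
    simpa using hi
  have h := hcov i i.2
  simp only [covered, Bool.or_eq_true, beq_iff, hi0, false_or, List.any_eq_true, List.mem_map] at h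
  obtain ⟨O, ⟨⟨O', w⟩, hq, rfl⟩, hmem⟩ := h
  obtain ⟨hm, hO, hst, hw, D⟩ := hL _ hq
  simp only at hm hO hst hw hmem
  simp only [Orb.mem, andB_eq, Bool.and_eq_true, beq_iff, blt_iff] at hmem
  have hwl : ∀ a ∈ w, a < C.k := fun a ha => blt_iff.mp (allL_spec hw a ha)
  let S := wordSubgroup f C.subs ⊔ Subgroup.zpowers g
  have key : ∀ p, p < O'.m → ∀ j : Fin A.n, (j : ℕ) = O'.get p →
      ∃ h ∈ wordSubgroup f C.subs, K.coset f j = QuotientGroup.mk (h * eval f w) := by
    intro p
    induction p using Nat.strongRecOn with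
    | _ p IH =>
      intro hp j hj
      have hpos := hO p hp
      simp only [Orb.posOK, force_eq, andB_eq, iteB_eq, Bool.and_eq_true, Bool.cond_true_left,
        Bool.or_eq_true, beq_iff, blt_iff] at hpos
      rcases hpos.2.2.2 with h0 | ⟨h1, h2, h3⟩
      · subst h0
        refine ⟨1, one_mem _, ?_⟩
        have e : j = φ (eval f w) ⟨0, K.pos⟩ := by
          refine Fin.ext ?_
          rw [map_eval K M φ hφ hwl, K.eval_perm hwl, hj]
          exact hst.symm
        rw [e, coset_map K M φ hφ, coset_zero, MulAction.Quotient.smul_mk, smul_eq_mul, mul_one,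
          one_mul]
      · have hlt : O'.get (O'.pP p) < A.n := by
          have := hO _ (h1.trans hp)
          simp only [Orb.posOK, force_eq, andB_eq, Bool.and_eq_true, blt_iff] at this
          exact this.1
        obtain ⟨h, hh, e⟩ := IH _ h1 (h1.trans hp) ⟨_, hlt⟩ rfl
        have hsw : C.subs.getD (O'.pW p) [] ∈ C.subs := by
          rw [List.getD_eq_getElem _ _ h2]; exact List.getElem_mem h2
        have hl := M.subs_lt _ hsw
        refine ⟨eval f (C.subs.getD (O'.pW p) []) * h,
          mul_mem (Subgroup.subset_closure ⟨_, hsw, rfl⟩) hh, ?_⟩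
        have e2 : j = φ (eval f (C.subs.getD (O'.pW p) [])) ⟨_, hlt⟩ := by
          refine Fin.ext ?_
          rw [map_eval K M φ hφ hl, K.eval_perm hl, hj]
          exact h3.symm
        rw [e2, coset_map K M φ hφ, e, MulAction.Quotient.smul_mk, smul_eq_mul, mul_assoc]
  obtain ⟨h, hh, e⟩ := key _ hmem.1 i hmem.2.symm
  rw [hi, QuotientGroup.eq] at e
  obtain ⟨C', A', N', D⟩ := D
  apply top_unique
  rw [← D.eq_top M, wordSubgroup, Subgroup.closure_le]
  rintro _ ⟨v, hv, rfl⟩
  rcases List.mem_append.mp hv with hv | hv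
  · exact Subgroup.mem_sup_left (Subgroup.subset_closure ⟨v, hv, rfl⟩)
  · obtain rfl : v = w := List.mem_singleton.mp hv
    rw [SetLike.mem_coe]
    have : eval f v = h⁻¹ * g * (g⁻¹ * (h * eval f v)) := by group
    rw [this]
    exact mul_mem (mul_mem (Subgroup.mem_sup_left (inv_mem hh))
      (Subgroup.mem_sup_right (Subgroup.mem_zpowers g))) (Subgroup.mem_sup_left e)

include M hφ in
theorem eq_bot_of_le (hinj : Function.Injective φ) (Nn : Subgroup G) (hN : Nn.Normal)
    (hle : Nn ≤ wordSubgroup f C.subs) : Nn = ⊥ := by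
  rw [Subgroup.eq_bot_iff_forall]
  intro x hx
  apply hinj
  ext i
  rw [map_one, Equiv.Perm.one_apply]
  congr 1
  apply coset_injective K M φ hφ
  rw [coset_map K M φ hφ]
  obtain ⟨y, hy⟩ := QuotientGroup.mk_surjective (K.coset f i)
  rw [← hy, MulAction.Quotient.smul_mk, QuotientGroup.eq]
  apply hle
  have := hN.conj_mem _ (inv_mem hx) y⁻¹
  simpa [smul_eq_mul, mul_assoc] using this

include M hφ in
/-- the simplicity criterion in terms of certificates -/
theorem isSimple {b d : ℕ} (hfin : Finite G ∧ Nat.card G ≤ b) (hd : 1 < d)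
    (L : List (Orb × List (List ℕ))) (hL : LevelsOK C A L) (hb : levelsCard L = b)
    (Os : List (Orb × List ℕ)) (hOs : ∀ q ∈ Os, Suborbit C A q.1 q.2)
    (hcov : Below (covered (Os.map Prod.fst)) A.n)
    (x : List ℕ) (hxl : allL (fun a => Nat.blt a C.k) x = true)
    (hxp : Below (A.fixOK [(List.replicate d x).flatten]) A.n)
    (hxd : Nat.Coprime d (b / A.n))
    {C' : Cert} {A' : CosetTable.Table} {N' : ℕ} (D : Kills C C' A' N' x) (hb1 : 1 < b) :
    IsSimpleGroup G ∧ Nat.card G = b := by
  obtain ⟨hcard, hinj⟩ := natCard_eq K M φ hφ hfin L hL hb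
  haveI := hfin.1
  haveI : Nontrivial G := Finite.one_lt_card_iff_nontrivial.mp (hcard ▸ hb1)
  refine ⟨?_, hcard⟩
  have hxl' : ∀ a ∈ x, a < C.k := fun a ha => blt_iff.mp (allL_spec hxl a ha)
  have hpow : eval f x ^ d = 1 := by
    apply hinj
    rw [map_pow, map_one, map_eval K M φ hφ hxl', ← eval_flatten_replicate]
    ext i
    rw [K.eval_perm (fun a ha => by
      obtain ⟨l, hl, ha⟩ := List.mem_flatten.mp ha
      rw [List.eq_of_mem_replicate hl] at ha
      exact hxl' a ha), Equiv.Perm.one_apply]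
    exact beq_iff.mp (allL_spec (hxp i i.2) _ (by simp))
  have hH : Nat.card (wordSubgroup f C.subs) = b / A.n := by
    rw [← hcard, ← Subgroup.index_mul_card (wordSubgroup f C.subs), index_eq K M φ hφ,
      Nat.mul_div_cancel_left _ K.pos]
  refine isSimpleGroup_of_maximal (wordSubgroup f C.subs) (eval f x)
    (fun Nn hN hle => eq_bot_of_le K M φ hφ hinj Nn hN hle)
    (sup_zpowers_eq_top K M φ hφ Os hOs hcov) ?_ (D.normalClosure_eq_top M)
  rw [hH]
  exact hxd.coprime_dvd_left (orderOf_dvd_of_pow_eq_one hpow)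
where
  eval_flatten_replicate {n : ℕ} {w : List ℕ} {P : Type} [Group P] {p : ℕ → P} :
      eval p (List.replicate n w).flatten = eval p w ^ n := by
    induction n with
    | zero => simp [eval]
    | succ n ih => rw [List.replicate_succ, List.flatten_cons, eval_append, ih, pow_succ]

end Checked

end Cfsg.Agent.Lib.CosetTable.Big
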